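import Cfsg.Agent.TwoESix.Phi

/-!
# An element of order `17` of `²E₆(2)` fixed by the field automorphism (S3502)
-/

set_option autoImplicit false

namespace Cfsg.Agent.H126.Der

open Cfsg Cfsg.Lie Cfsg.Agent.TwoESix.Data Cfsg.Agent.TwoESix.Iso Cfsg.Agent.TwoESix.Gens Cfsg.Agent.TwoESix.RootsCfg
open Cfsg.Agent.TwoESix.Phi Cfsg.Agent.Lib Cfsg.Agent.Lib.F2MatGroup

/-- the word -/
def yw : List ℕ := [12, 10, 17, 11, 13, 23, 14, 20]

theorem y_check : F2Mat.force (evW 78 (Ts ++ Ms) yw) (fun A => Nat.beq (npow 78 A 17) (F2Mat.one 78) &&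
    Nat.beq (F2Mat.mul 78 (F2Mat.mul 78 mPhi A) mPhi) A) = true := by decide +kernel

theorem n_check : neqs 78 [(yw, []), ([15], [16])] (Ts ++ Ms) = true := by decide +kernel

/-- the element -/
def yG : GL (Fin 78) (ZMod 2) := evG LG yw

theorem yG_mem : yG ∈ Gam := by
  refine evG_mem' Gam _ fun j hj => ?_
  have h5 : yw.all (fun j => Nat.ble 10 j && Nat.blt j 26) = true := by decide
  have h4 := List.all_eq_true.1 h5 j hj
  rw [Bool.and_eq_true, Nat.ble_eq, Nat.blt_eq] at h4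
  have h6 : j = 10 + (⟨j - 10, by omega⟩ : Fin 16).val := by
    have : (⟨j - 10, by omega⟩ : Fin 16).val = j - 10 := rfl
    omega
  rw [h6, getG_gM]
  exact Subgroup.subset_closure ⟨_, rfl⟩

theorem yG_facts : yG ^ 17 = 1 ∧ Phi * yG * Phi = yG := by
  have h := y_check
  rw [F2Mat.force_eq, Bool.and_eq_true] at h
  have hc : Codes 78 yG (evW 78 (Ts ++ Ms) yw) := codes_evW codes_LG yw
  exact ⟨(hc.pow 17).eq_one h.1, ((codes_Phi.mul hc).mul codes_Phi).eq hc h.2⟩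

theorem ne_facts : yG ≠ 1 ∧ gM 5 ≠ gM 6 := by
  have h := neqs_sound (by norm_num) codes_LG n_check
  refine ⟨h (yw, []) (by simp), ?_⟩
  have h1 := h ([15], [16]) (by simp)
  rw [evG_cons, evG_cons, evG_nil, mul_one, mul_one] at h1
  exact h1

theorem orderOf_yG : orderOf yG = 17 := by
  have : Fact (Nat.Prime 17) := ⟨by norm_num⟩
  exact orderOf_eq_prime yG_facts.1 ne_facts.1

/-- conjugation by `Phi` -/
def phiE : Gam ≃* Gam where
  toFun g := ⟨Phi * g * Phi, Phi_conj_mem g.2⟩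
  invFun g := ⟨Phi * g * Phi, Phi_conj_mem g.2⟩
  left_inv g := Subtype.ext (by
    show Phi * (Phi * (g : GL (Fin 78) (ZMod 2)) * Phi) * Phi = g
    calc Phi * (Phi * (g : GL (Fin 78) (ZMod 2)) * Phi) * Phi = (Phi * Phi) * g * (Phi * Phi) := by simp only [mul_assoc]
      _ = g := by rw [Phi_sq, one_mul, mul_one])
  right_inv g := Subtype.ext (by
    show Phi * (Phi * (g : GL (Fin 78) (ZMod 2)) * Phi) * Phi = g
    calc Phi * (Phi * (g : GL (Fin 78) (ZMod 2)) * Phi) * Phi = (Phi * Phi) * g * (Phi * Phi) := by simp only [mul_assoc]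
      _ = g := by rw [Phi_sq, one_mul, mul_one])
  map_mul' a b := Subtype.ext (by
    show Phi * ((a : GL (Fin 78) (ZMod 2)) * b) * Phi = (Phi * a * Phi) * (Phi * b * Phi)
    calc Phi * ((a : GL (Fin 78) (ZMod 2)) * b) * Phi = Phi * a * (1 * b) * Phi := by simp only [mul_assoc, one_mul]
      _ = Phi * a * (Phi * Phi * b) * Phi := by rw [Phi_sq]
      _ = (Phi * a * Phi) * (Phi * b * Phi) := by simp only [mul_assoc])

theorem phiE_yG : phiE ⟨yG, yG_mem⟩ = ⟨yG, yG_mem⟩ := by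
  apply Subtype.ext
  show Phi * yG * Phi = yG
  exact yG_facts.2

/-- **The field automorphism of `²E₆(2)` fixes an element of order `17`.** -/
theorem exists_fix {T : Type*} [Group T] {K : Type} [Field K] [Fintype K] (hK : Fintype.card K = 2 ^ 2)
    (e : T ≃* ↥(twistedE6 K 2)) : ∃ (φ : T ≃* T) (y : T), φ * φ = 1 ∧ φ ≠ 1 ∧ orderOf y = 17 ∧ φ y = y := by
  obtain ⟨e'⟩ := nonempty_equiv K hK
  obtain ⟨f⟩ : Nonempty (T ≃* Gam) := ⟨e.trans e'⟩
  let φ : T ≃* T := (f.trans phiE).trans f.symm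
  have hφ : ∀ t, φ t = f.symm (phiE (f t)) := fun t => rfl
  refine ⟨φ, f.symm ⟨yG, yG_mem⟩, ?_, ?_, ?_, ?_⟩
  · ext t
    show φ (φ t) = t
    rw [hφ, hφ, f.apply_symm_apply]
    have h1 : phiE (phiE (f t)) = f t := phiE.left_inv (f t)
    rw [h1, f.symm_apply_apply]
  · intro h
    have h5 : gM 5 ∈ Gam := Subgroup.subset_closure ⟨_, rfl⟩
    have h1 : φ (f.symm ⟨gM 5, h5⟩) = f.symm ⟨gM 5, h5⟩ := by rw [h]; rfl
    rw [hφ, f.apply_symm_apply] at h1
    have h2 := congrArg Subtype.val (f.symm.injective h1)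
    have h3 : Phi * gM 5 * Phi = gM 5 := h2
    rw [Phi_gM] at h3
    exact ne_facts.2 h3.symm
  · have h1 : orderOf (f.symm ⟨yG, yG_mem⟩) = orderOf (⟨yG, yG_mem⟩ : Gam) :=
      orderOf_injective f.symm.toMonoidHom f.symm.injective _
    rw [h1, Subgroup.orderOf_mk, orderOf_yG]
  · have h1 : phiE ⟨yG, yG_mem⟩ = ⟨yG, yG_mem⟩ := phiE_yG
    rw [hφ, f.apply_symm_apply, h1]

end Cfsg.Agent.H126.Der
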