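import Cfsg.Agent.OrdDiv.Main

/-!
# `O₁₀⁻(2)` has no element of order `22` (S3502)
-/

set_option autoImplicit false

namespace Cfsg.Agent.H126.Der

open Subgroup Cfsg Cfsg.Agent.OrdDiv

universe u

/-- fixed points of a map of prime order on a finite type -/
theorem card_fix_mod {α : Type*} [Finite α] {p : ℕ} [hp : Fact p.Prime] (f : α → α) (hf : ∀ a, f^[p] a = a) :
    Nat.card α ≡ Nat.card {a // f a = a} [MOD p] := by
  classical
  have := Fintype.ofFinite α
  let g : Function.End α := f
  have hg : g ^ p ^ 1 = 1 := by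
    rw [pow_one]
    have key : ∀ n : ℕ, (g ^ n : Function.End α) = f^[n] := by
      intro n
      induction n with
      | zero => rfl
      | succ n ih =>
        rw [pow_succ, ih]
        rfl
    rw [key]
    funext a
    exact hf a
  have h1 := Equiv.Perm.card_fixedPoints_modEq hg
  rw [← Nat.card_eq_fintype_card, ← Nat.card_eq_fintype_card] at h1
  exact h1

/-- in a group acting faithfully on an abelian group of order `2 ^ 10`, no element of order `22` -/
theorem no22 {V : Type*} [AddCommGroup V] [Finite V] (hV : Nat.card V = 2 ^ 10) (a b : V →+ V) (ha : ∀ v, a^[11] v = v) (ha1 : ∃ v, a v ≠ v) (hb : ∀ v, b (b v) = v) (hb1 : ∃ v, b v ≠ v)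
    (hab : ∀ v, a (b v) = b (a v)) : False := by
  have hp : Fact (Nat.Prime 11) := ⟨by norm_num⟩
  have hp2 : Fact (Nat.Prime 2) := ⟨by norm_num⟩
  -- the fixed points of `a`
  let A : AddSubgroup V := { carrier := {v | a v = v}, add_mem' := fun {x y} hx hy => by
                               show a (x + y) = x + y
                               rw [map_add, show a x = x from hx, show a y = y from hy]
                             zero_mem' := map_zero a
                             neg_mem' := fun {x} hx => by
                               show a (-x) = -x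
                               rw [map_neg, show a x = x from hx] }
  let B : AddSubgroup V := { carrier := {v | b v = v}, add_mem' := fun {x y} hx hy => by
                               show b (x + y) = x + y
                               rw [map_add, show b x = x from hx, show b y = y from hy]
                             zero_mem' := map_zero b
                             neg_mem' := fun {x} hx => by
                               show b (-x) = -x
                               rw [map_neg, show b x = x from hx] }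
  have hA : Nat.card A = 1 := by
    have h1 : Nat.card V ≡ Nat.card A [MOD 11] := card_fix_mod a ha
    have h2 : Nat.card A ∣ 2 ^ 10 := hV ▸ AddSubgroup.card_addSubgroup_dvd_card A
    obtain ⟨i, hi, hc⟩ := (Nat.dvd_prime_pow Nat.prime_two).1 h2
    rw [hV, hc] at h1
    have h3 : (2 ^ 10 : ℕ) % 11 = 2 ^ i % 11 := h1
    have h4 : i = 0 ∨ i = 10 := by interval_cases i <;> revert h3 <;> decide
    rcases h4 with rfl | rfl
    · rw [hc, pow_zero]
    · exfalso
      obtain ⟨v, hv⟩ := ha1
      apply hv
      have h5 : A = ⊤ := AddSubgroup.eq_top_of_card_eq A (by rw [hc, hV])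
      have h6 : v ∈ A := by rw [h5]; exact AddSubgroup.mem_top v
      exact h6
  have hB2 : Nat.card B ∣ 2 ^ 10 := hV ▸ AddSubgroup.card_addSubgroup_dvd_card B
  obtain ⟨j, hj, hcB⟩ := (Nat.dvd_prime_pow Nat.prime_two).1 hB2
  have hB : Nat.card V ≡ Nat.card B [MOD 2] := card_fix_mod b hb
  have hj0 : j ≠ 0 := by
    rintro rfl
    rw [hV, hcB] at hB
    exact absurd hB (by decide)
  have hj10 : j ≠ 10 := by
    rintro rfl
    obtain ⟨v, hv⟩ := hb1
    apply hv
    have h5 : B = ⊤ := AddSubgroup.eq_top_of_card_eq B (by rw [hcB, hV])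
    have h6 : v ∈ B := by rw [h5]; exact AddSubgroup.mem_top v
    exact h6
  -- `a` on `B`
  let f : B → B := fun v => ⟨a v, by
    show b (a v) = a v
    rw [← hab, show b (v : V) = v from v.2]⟩
  have hf : ∀ (n : ℕ) (v : B), ((f^[n] v : B) : V) = a^[n] v := by
    intro n
    induction n with
    | zero => intro v; rfl
    | succ n ih =>
      intro v
      rw [Function.iterate_succ_apply', Function.iterate_succ_apply', ← ih]
  have h1 : Nat.card B ≡ Nat.card {v : B // f v = v} [MOD 11] := card_fix_mod f fun v => Subtype.ext (by rw [hf, ha])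
  have h2 : Nat.card {v : B // f v = v} = 1 := by
    rw [Nat.card_eq_one_iff_unique]
    refine ⟨⟨?_⟩, ⟨⟨0, ?_⟩⟩⟩
    · have h3 : ∀ w : {v : B // f v = v}, ((w : B) : V) = 0 := by
        intro w
        have h4 : ((w : B) : V) ∈ A := congrArg Subtype.val w.2
        have h5 : A = ⊥ := AddSubgroup.card_eq_one.1 hA
        rw [h5] at h4
        exact (AddSubgroup.mem_bot).1 h4
      intro x y
      exact Subtype.ext (Subtype.ext ((h3 x).trans (h3 y).symm))
    · exact Subtype.ext (map_zero a)
  rw [h2, hcB] at h1
  have h3 : (2 ^ j : ℕ) % 11 = 1 % 11 := h1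
  interval_cases j <;> first | exact hj0 rfl | exact hj10 rfl | (revert h3; decide)

theorem no22_gl {F : Type*} [Field F] [Finite F] (hF : Nat.card F = 2) {ι : Type*} [Fintype ι] [DecidableEq ι]
    (hι : Fintype.card ι = 10) (g : GL ι F) : orderOf g ≠ 22 := by
  intro hg
  have hV : Nat.card (ι → F) = 2 ^ 10 := by
    rw [Nat.card_fun, hF, Nat.card_eq_fintype_card, hι]
  let φ : GL ι F → ((ι → F) →+ (ι → F)) := fun h => (Matrix.mulVecLin (h : Matrix ι ι F)).toAddMonoidHom
  have hφ : ∀ h v, φ h v = (h : Matrix ι ι F).mulVec v := fun h v => rfl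
  have hit : ∀ (h : GL ι F) (n : ℕ) (v : ι → F), (φ h)^[n] v = ((h ^ n : GL ι F) : Matrix ι ι F).mulVec v := by
    intro h n
    induction n with
    | zero => intro v; simp
    | succ n ih =>
      intro v
      rw [Function.iterate_succ_apply', ih, hφ, Matrix.mulVec_mulVec, pow_succ']
      rfl
  have hne : ∀ h : GL ι F, h ≠ 1 → ∃ v, φ h v ≠ v := by
    intro h hh
    by_contra hc
    push Not at hc
    apply hh
    apply Units.ext
    refine Matrix.mulVec_injective (funext fun v => ?_)
    rw [Units.val_one, Matrix.one_mulVec]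
    exact hc v
  have h2 : g ^ 2 ≠ 1 := fun h => by
    have := orderOf_dvd_of_pow_eq_one h
    rw [hg] at this
    exact absurd this (by decide)
  have h11 : g ^ 11 ≠ 1 := fun h => by
    have := orderOf_dvd_of_pow_eq_one h
    rw [hg] at this
    exact absurd this (by decide)
  have h22 : g ^ 22 = 1 := by rw [← hg, pow_orderOf_eq_one]
  refine no22 hV (φ (g ^ 2)) (φ (g ^ 11)) (fun v => ?_) (hne _ h2) (fun v => ?_) (hne _ h11) (fun v => ?_)
  · rw [hit, ← pow_mul, h22, Units.val_one, Matrix.one_mulVec]
  · rw [hφ, hφ, Matrix.mulVec_mulVec, ← Units.val_mul, ← pow_add, h22, Units.val_one, Matrix.one_mulVec]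
  · rw [hφ, hφ, hφ, hφ, Matrix.mulVec_mulVec, Matrix.mulVec_mulVec, ← Units.val_mul, ← Units.val_mul, ← pow_add, ← pow_add]

/-- **`O₁₀⁻(2)` has no element of order `22`.** -/
theorem no22_real {S : Type u} [Group S] (h : Real (.ominus 5 2) S) (s : S) : orderOf s ≠ 22 := by
  intro hs
  obtain ⟨F, iF, iT, a, b, hF, -, ⟨e⟩⟩ := h
  have hF' : Nat.card F = 2 := by rw [Nat.card_eq_fintype_card, hF]
  obtain ⟨t, ht⟩ : ∃ t, t = e s := ⟨_, rfl⟩
  have hto : orderOf t = 22 := by rw [ht, ← hs]; exact orderOf_injective e.toMonoidHom e.injective s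
  obtain ⟨x, rfl⟩ := QuotientGroup.mk_surjective t
  have h1 : 22 ∣ orderOf x := by
    rw [← hto]
    exact orderOf_map_dvd (QuotientGroup.mk' (Subgroup.center (Omega F (quadFormMinus (5 - 1) F a b)))) x
  have hfin : Finite (GL ((Fin (5 - 1) ⊕ Fin (5 - 1)) ⊕ Fin 2) F) := inferInstance
  have h2 : orderOf (x ^ (orderOf x / 22)) = 22 := orderOf_pow_orderOf_div (orderOf_pos x).ne' h1
  refine no22_gl hF' (ι := (Fin (5 - 1) ⊕ Fin (5 - 1)) ⊕ Fin 2) (by simp) (((x ^ (orderOf x / 22) :
    Omega F (quadFormMinus (5 - 1) F a b)) : isometryGroup F (quadFormMinus (5 - 1) F a b)) :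
      GL ((Fin (5 - 1) ⊕ Fin (5 - 1)) ⊕ Fin 2) F) ?_
  rw [Subgroup.orderOf_coe, Subgroup.orderOf_coe, h2]

end Cfsg.Agent.H126.Der
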