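import Cfsg.Agent.H126.Der.TwoSix

/-!
# `²E₆(q)` of the order of `²E₆(2)`: the row of S3502
-/

set_option autoImplicit false

namespace Cfsg.Agent.H126.Der

open Cfsg Cfsg.Lie Cfsg.Agent.OrdDiv Cfsg.Agent.H439.Der Cfsg.Agent.H81.Der

universe u

/-- `|²E₆(q)| = |²E₆(2)|` only for `q = 2` -/
theorem lt_three_of_card {T : Type u} [Group T] {K : Type} [Field K] [Fintype K] {q : ℕ} (hq : IsPrimePow q)
    (hK : Fintype.card K = q ^ 2) (e : T ≃* ↥(twistedE6 K q)) (hT : Nat.card T = NT) : q < 3 := by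
  by_contra h2
  rw [not_lt] at h2
  have h3 := S1066.result (K := K) hq hK
  rw [← Nat.card_congr e.toEquiv, hT] at h3
  have hp : ∀ k, 1 ≤ q ^ k := fun k => Nat.one_le_pow _ _ (by omega)
  have h4 : ∀ k, 1 ≤ k → 1 ≤ q ^ k - 1 := fun k hk => by
    have : q ^ 1 ≤ q ^ k := Nat.pow_le_pow_right (by omega) hk
    rw [pow_one] at this
    omega
  have h5 : 3 ^ 36 * (q ^ 2 - 1) * (q ^ 5 + 1) * (q ^ 6 - 1) * (q ^ 8 - 1) * (q ^ 9 + 1) * (q ^ 12 - 1) ≤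
      Nat.gcd 3 (q + 1) * NT := by
    rw [h3]
    gcongr
  have h6 : (3 ^ 36 * 1 * 1 * (3 ^ 6 - 1) * 1 * 1 * (3 ^ 12 - 1) : ℕ) ≤
      3 ^ 36 * (q ^ 2 - 1) * (q ^ 5 + 1) * (q ^ 6 - 1) * (q ^ 8 - 1) * (q ^ 9 + 1) * (q ^ 12 - 1) := by
    refine Nat.mul_le_mul (Nat.mul_le_mul (Nat.mul_le_mul (Nat.mul_le_mul (Nat.mul_le_mul
      (Nat.mul_le_mul le_rfl ?_) ?_) ?_) ?_) ?_) ?_
    · exact h4 2 (by norm_num)
    · exact Nat.le_add_left _ _
    · exact Nat.sub_le_sub_right (Nat.pow_le_pow_left h2 6) 1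
    · exact h4 8 (by norm_num)
    · exact Nat.le_add_left _ _
    · exact Nat.sub_le_sub_right (Nat.pow_le_pow_left h2 12) 1
  have h7 : Nat.gcd 3 (q + 1) ≤ 3 := Nat.le_of_dvd (by norm_num) (Nat.gcd_dvd_left _ _)
  have h8 := (h6.trans h5).trans (Nat.mul_le_mul_right NT h7)
  unfold NT at h8
  norm_num at h8

/-- **The row of S3502 for `²E₆(q)` of order `|²E₆(2)|`.** -/
theorem rowS_2e6_NT (tab : OrderTable.{u})
    (hS : ∀ (X : Type u) [Group X] [Finite X] [IsSimpleGroup X], IsKnownSimple' X) {T : Type u} [Group T] [Finite T]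
    (h : Cfsg.Lie.Iso2E6 T) (hc : Nat.card T = NT) : RowS T := by
  obtain ⟨K, _, _, q, hq, hK, ⟨e⟩⟩ := h
  exact rowS_2e6_two tab hS (lt_three_of_card hq hK e hc) hq hK e

end Cfsg.Agent.H126.Der
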