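import Cfsg.Agent.H126.Der.Syl
import Cfsg.Agent.H81.DerTwo

/-!
# Subgroups of `²E₆(2)` of order divisible by `5`, `7`, `11`, `17`, but not by `13` (S3502)

`str` : such a group `X` has a normal subgroup `K` of order `1` or `2 ^ 16` with `X / K ≅ O₁₀⁻(2)`.
-/

set_option autoImplicit false

namespace Cfsg.Agent.H126.Der

open Subgroup Cfsg Cfsg.Agent.OrdDiv Cfsg.Agent.H439.Der
open Cfsg.Agent.H81.Der (lT NT vT Fpf fpf_two fpf_of_dvd index_dvd_norm dvd_index)

universe u

/-- the order of `O₁₀⁻(2)` -/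
def NS : ℕ := 25015379558400

/-- the condition on the order -/
def cnd (n : ℕ) : Bool := [5, 7, 11, 17].all (fun p => Nat.beq (n % p) 0) && !(Nat.beq (n % 13) 0)

theorem cS : (cands lT NT).filter (fun g => cnd (ordN g)) = [.ominus 5 2] := by decide +kernel

theorem cS' : (cands lT NT).filter (fun g => cnd (ordN g) && !(Nat.beq (ordN g) NS)) = [] := by decide +kernel

/-- the hypotheses -/
structure Hyp (X : Type u) [Group X] : Prop where
  dvd : Nat.card X ∣ NT
  cent : ∀ x : X, orderOf x = 17 → Nat.card (centralizer ({x} : Set X)) = 17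
  norm : ∀ x : X, orderOf x = 17 → Nat.card (normalizer (zpowers x : Set X)) ∣ 136

theorem Hyp.sub {X : Type u} [Group X] [Finite X] (h : Hyp X) (L : Subgroup X) : Hyp L := by
  have hx : ∀ x : L, orderOf x = 17 → orderOf (x : X) = 17 := fun x hx => by rw [Subgroup.orderOf_coe, hx]
  refine ⟨(card_subgroup_dvd_card L).trans h.dvd, fun x hxo => ?_, fun x hxo => ?_⟩
  · have h1 := h.cent x (hx x hxo)
    let f : centralizer ({x} : Set L) →* centralizer ({(x : X)} : Set X) :=
      (L.subtype.comp (Subgroup.subtype _)).codRestrict _ (fun z => by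
        rw [mem_centralizer_singleton_iff]
        exact congrArg Subtype.val (mem_centralizer_singleton_iff.1 z.2))
    have hf : Function.Injective f := fun a b h =>
      Subtype.ext (Subtype.ext (congrArg (fun z : centralizer ({(x : X)} : Set X) => (z : X)) h))
    have h2 := Subgroup.card_dvd_of_injective f hf
    rw [h1] at h2
    have h3 : zpowers x ≤ centralizer ({x} : Set L) := by rw [zpowers_le, mem_centralizer_singleton_iff]
    have h4 := card_dvd_of_le h3
    rw [Nat.card_zpowers, hxo] at h4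
    exact Nat.dvd_antisymm h2 h4
  · refine dvd_trans ?_ (h.norm x (hx x hxo))
    let f : normalizer (zpowers x : Set L) →* normalizer (zpowers (x : X) : Set X) :=
      (L.subtype.comp (Subgroup.subtype _)).codRestrict _ (fun z => by
        apply mem_normalizer_of
        have h1 := z.2
        rw [mem_normalizer_iff] at h1
        have h2 := (h1 x).1 (mem_zpowers x)
        obtain ⟨k, hk⟩ := mem_zpowers_iff.1 h2
        exact mem_zpowers_iff.2 ⟨k, by simpa using congrArg Subtype.val hk⟩)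
    have hf : Function.Injective f := fun a b h =>
      Subtype.ext (Subtype.ext (congrArg (fun z : normalizer (zpowers (x : X) : Set X) => (z : X)) h))
    exact Subgroup.card_dvd_of_injective f hf

theorem not_sq {n : ℕ} (h : n ∣ NT) : ¬ 17 ^ 2 ∣ n := fun h1 => absurd (h1.trans h) (by decide +kernel)

/-- the automizer in a group of the class -/
theorem Hyp.mod {X : Type u} [Group X] [Finite X] (h : Hyp X) (h17 : 17 ∣ Nat.card X) :
    ∃ r, r ∣ 8 ∧ Nat.card X / 17 % 17 = r := by
  have hp : Fact (Nat.Prime 17) := ⟨by norm_num⟩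
  obtain ⟨y, hy⟩ := exists_prime_orderOf_dvd_card' 17 h17
  obtain ⟨c, r, s, h1, h2, -, h4, h5, h6⟩ := syl (not_sq h.dvd) hy
  rw [h.cent y hy] at h1
  have hc : c = 1 := by omega
  subst hc
  have h7 := h.norm y hy
  rw [h2] at h7
  have h8 : r ∣ 8 := by
    have : 17 * r ∣ 17 * 8 := by simpa using h7
    exact Nat.dvd_of_mul_dvd_mul_left (by norm_num) this
  have h9 : r ≤ 8 := Nat.le_of_dvd (by norm_num) h8
  refine ⟨r, h8, ?_⟩
  have h10 : Nat.card X / 17 = r * s := by
    rw [← h4, mul_one, mul_assoc, Nat.mul_div_cancel_left _ (by norm_num)]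
  rw [h10, Nat.mul_mod, h6, mul_one, Nat.mod_mod, Nat.mod_eq_of_lt (by omega)]

/-- `S` is `O₁₀⁻(2)` -/
def IsO10 (S : Type u) [Group S] : Prop := Nat.card S = NS ∧ IsSimpleGroup S ∧ Real (.ominus 5 2) S

theorem isO10_of (tab : OrderTable.{u}) (hS : ∀ (X : Type u) [Group X] [Finite X] [IsSimpleGroup X], IsKnownSimple' X)
    {S : Type u} [Group S] [Finite S] [hs : IsSimpleGroup S] (hd : Nat.card S ∣ NT) (h5 : 5 ∣ Nat.card S)
    (h7 : 7 ∣ Nat.card S) (h11 : 11 ∣ Nat.card S) (h17 : 17 ∣ Nat.card S) (h13 : ¬ 13 ∣ Nat.card S) : IsO10 S := by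
  have hna : ¬ ∀ a b : S, a * b = b * a := by
    intro hab
    have hcm : IsMulCommutative S := ⟨⟨hab⟩⟩
    let _ : CommGroup S := { (inferInstance : Group S) with mul_comm := hab }
    have h2 : (Nat.card S).Prime := IsSimpleGroup.prime_card
    have h3 := (Nat.prime_dvd_prime_iff_eq (by norm_num) h2).1 h5
    have h4 := (Nat.prime_dvd_prime_iff_eq (by norm_num) h2).1 h7
    exact absurd (h3.trans h4.symm) (by decide)
  obtain ⟨g, hg, hr, hcard⟩ := exists_good tab (hS S) hna vT hd
  have hc : cnd (ordN g) = true := by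
    rw [← hcard]
    unfold cnd
    rw [Bool.and_eq_true, List.all_eq_true, Bool.not_eq_true']
    constructor
    · intro p hp
      simp only [List.mem_cons, List.not_mem_nil, or_false] at hp
      rw [Nat.beq_eq]
      rcases hp with rfl | rfl | rfl | rfl
      · exact Nat.mod_eq_zero_of_dvd h5
      · exact Nat.mod_eq_zero_of_dvd h7
      · exact Nat.mod_eq_zero_of_dvd h11
      · exact Nat.mod_eq_zero_of_dvd h17
    · rw [Bool.eq_false_iff]
      intro h
      exact h13 (Nat.dvd_of_mod_eq_zero (Nat.eq_of_beq_eq_true h))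
  have h1 : g ∈ (cands lT NT).filter (fun g => cnd (ordN g)) := List.mem_filter.2 ⟨hg, hc⟩
  rw [cS, List.mem_singleton] at h1
  subst h1
  refine ⟨?_, hs, hr⟩
  by_contra hne
  have h2 : Grp.ominus 5 2 ∈ (cands lT NT).filter (fun g => cnd (ordN g) && !(Nat.beq (ordN g) NS)) := by
    refine List.mem_filter.2 ⟨hg, ?_⟩
    rw [Bool.and_eq_true]
    refine ⟨hc, ?_⟩
    rw [Bool.not_eq_true', Bool.eq_false_iff]
    intro h3
    exact hne (hcard.trans (Nat.eq_of_beq_eq_true h3))
  rw [cS'] at h2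
  exact absurd h2 (by simp)

/-- a normal subgroup of order `2 ^ 8` -/
theorem no_eight {X : Type u} [Group X] [Finite X] (h : Hyp X) {L : Subgroup X} [hL : L.Normal] (hl : Nat.card L = 2 ^ 8)
    [hs : IsSimpleGroup (X ⧸ L)] (h11 : 11 ∣ Nat.card X) (h17 : 17 ∣ Nat.card X) : False := by
  have hp : Fact (Nat.Prime 11) := ⟨by norm_num⟩
  have hp' : Fact (Nat.Prime 17) := ⟨by norm_num⟩
  obtain ⟨y, hy⟩ := exists_prime_orderOf_dvd_card' 11 h11
  have h1 : Nat.card L ≡ Nat.card ↥(centralizer ({y} : Set X) ⊓ L) [MOD 11] := card_mod (by rw [← hy, pow_orderOf_eq_one])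
  have h2 : Nat.card ↥(centralizer ({y} : Set X) ⊓ L) ∣ 2 ^ 8 := hl ▸ card_dvd_of_le inf_le_right
  obtain ⟨a, ha, hc⟩ := (Nat.dvd_prime_pow Nat.prime_two).1 h2
  rw [hl, hc] at h1
  have h3 : a = 8 := by
    have h4 : (2 ^ 8 : ℕ) % 11 = 2 ^ a % 11 := h1
    interval_cases a <;> revert h4 <;> decide
  rw [h3, ← hl] at hc
  have h4 : centralizer ({y} : Set X) ⊓ L = L := Subgroup.eq_of_le_of_card_ge inf_le_right hc.ge
  have hle : L ≤ centralizer ({y} : Set X) := by rw [← h4]; exact inf_le_left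
  -- the centraliser of `L`
  have hyC : y ∈ centralizer (L : Set X) := by
    rw [mem_centralizer_iff]
    intro z hz
    exact mem_centralizer_singleton_iff.1 (hle hz)
  have hCn : (centralizer (L : Set X)).Normal := inferInstance
  have hyL : y ∉ L := by
    intro hyL
    have h5 := orderOf_dvd_natCard (⟨y, hyL⟩ : L)
    rw [Subgroup.orderOf_mk, hy, hl] at h5
    exact absurd h5 (by decide)
  have h5 : (centralizer (L : Set X)).map (QuotientGroup.mk' L) = ⊤ := by
    have hn : ((centralizer (L : Set X)).map (QuotientGroup.mk' L)).Normal := hCn.map _ (QuotientGroup.mk'_surjective L)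
    rcases hs.eq_bot_or_eq_top_of_normal _ hn with h6 | h6
    · exfalso
      apply hyL
      have h7 : QuotientGroup.mk' L y ∈ (centralizer (L : Set X)).map (QuotientGroup.mk' L) := ⟨y, hyC, rfl⟩
      rw [h6, mem_bot] at h7
      exact (QuotientGroup.eq_one_iff y).1 h7
    · exact h6
  have h6 : 17 ∣ Nat.card (X ⧸ L) := by
    have h7 := Subgroup.card_eq_card_quotient_mul_card_subgroup L
    rw [h7, hl] at h17
    exact (Nat.Coprime.dvd_mul_right (by norm_num)).1 h17
  have h7 : 17 ∣ Nat.card (centralizer (L : Set X)) := by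
    have h8 : Nat.card ((centralizer (L : Set X)).map (QuotientGroup.mk' L)) ∣ Nat.card (centralizer (L : Set X)) :=
      Subgroup.card_map_dvd _ _
    rw [h5, Subgroup.card_top] at h8
    exact h6.trans h8
  obtain ⟨z, hz⟩ := exists_prime_orderOf_dvd_card' 17 h7
  have hz' : orderOf (z : X) = 17 := by rw [Subgroup.orderOf_coe, hz]
  have h8 : L ≤ centralizer ({(z : X)} : Set X) := by
    intro w hw
    rw [mem_centralizer_singleton_iff]
    exact (mem_centralizer_iff.1 z.2) w hw
  have h9 := card_dvd_of_le h8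
  rw [h.cent _ hz', hl] at h9
  exact absurd h9 (by decide)

/-- **The structure.** -/
theorem str (tab : OrderTable.{u}) (hS : ∀ (X : Type u) [Group X] [Finite X] [IsSimpleGroup X], IsKnownSimple' X) :
    ∀ (n : ℕ) (X : Type u) [Group X] [Finite X], Nat.card X = n → Hyp X → 5 ∣ Nat.card X → 7 ∣ Nat.card X →
      11 ∣ Nat.card X → 17 ∣ Nat.card X → ¬ 13 ∣ Nat.card X →
      ∃ (K : Subgroup X) (_ : K.Normal), IsO10 (X ⧸ K) ∧ (Nat.card K = 1 ∨ Nat.card K = 2 ^ 16) := by
  intro n
  induction n using Nat.strong_induction_on with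
  | _ n ih =>
  intro X _ _ hn hX h5 h7 h11 h17 h13
  have hp' : Fact (Nat.Prime 17) := ⟨by norm_num⟩
  have hnt : Nontrivial X := by
    rw [← Finite.one_lt_card_iff_nontrivial]
    exact lt_of_lt_of_le (by norm_num) (Nat.le_of_dvd Nat.card_pos h17)
  obtain ⟨L, hLn, hLt, hmax⟩ : ∃ L : Subgroup X, L.Normal ∧ L ≠ ⊤ ∧ ∀ L' : Subgroup X, L'.Normal → L ≤ L' → L' ≠ ⊤ →
      L' = L := by
    obtain ⟨L, ⟨hL1, hL2⟩, hL3⟩ := (wellFounded_gt (α := Subgroup X)).has_min
      {L : Subgroup X | L.Normal ∧ L ≠ ⊤} ⟨⊥, inferInstance, bot_ne_top⟩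
    refine ⟨L, hL1, hL2, fun L' h1 h2 h3 => ?_⟩
    by_contra h4
    exact hL3 L' ⟨h1, h3⟩ (lt_of_le_of_ne h2 (Ne.symm h4))
  have hci : Nat.card L * L.index = Nat.card X := L.card_mul_index
  have hcX : ∀ x : X, orderOf x = 17 → Nat.card (centralizer ({x} : Set X)) ∣ 1 * 17 := fun x hx => by
    rw [hX.cent x hx, one_mul]
  have hv2 : ¬ 17 ^ 2 ∣ Nat.card X := not_sq hX.dvd
  by_cases hvL : 17 ∣ Nat.card L
  · exfalso
    -- the index of `L` is a power of `2`
    have hlt : Nat.card L < n := by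
      rw [← hn]
      refine lt_of_le_of_ne (Subgroup.card_le_card_group L) fun h => hLt ?_
      exact Subgroup.eq_top_of_card_eq L h
    have hLd : Nat.card L ∣ Nat.card X := Subgroup.card_subgroup_dvd_card L
    have key : ∀ p : ℕ, p.Prime → p ∣ Nat.card X → p ≠ 2 → p ≠ 17 → p ∣ Nat.card L := by
      intro p hp hpX h2 h3
      rw [← hci] at hpX
      rcases hp.dvd_mul.1 hpX with h4 | h4
      · exact h4
      · have h6 := dvd_index (c := 1) hp'.out hp hv2 hcX hvL h4
        exfalso
        have h8 : p ∣ 2 ^ 4 * 17 := by simpa using h6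
        rcases hp.dvd_mul.1 h8 with h9 | h9
        · exact h2 ((Nat.prime_dvd_prime_iff_eq hp Nat.prime_two).1 (hp.dvd_of_dvd_pow h9))
        · exact h3 ((Nat.prime_dvd_prime_iff_eq hp hp'.out).1 h9)
    obtain ⟨K, hK, hO, hKc⟩ := ih _ hlt L rfl (hX.sub L) (key 5 (by norm_num) h5 (by norm_num) (by norm_num))
      (key 7 (by norm_num) h7 (by norm_num) (by norm_num)) (key 11 (by norm_num) h11 (by norm_num) (by norm_num)) hvL
      (fun h => h13 (h.trans hLd))
    have hcL : Nat.card L = NS * Nat.card K := by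
      rw [Subgroup.card_eq_card_quotient_mul_card_subgroup K, hO.1]
    -- the index divides the order of the normaliser
    obtain ⟨x, hx⟩ := exists_prime_orderOf_dvd_card' 17 hvL
    have hxo : orderOf (x : X) = 17 := by rw [Subgroup.orderOf_coe, hx]
    obtain ⟨P, hP⟩ := BpSpor.SylowData.exists_sylow (not_sq (hX.sub L).dvd) hx
    have h1 := index_dvd_norm P
    rw [hP, MonoidHom.map_zpowers] at h1
    have h2 : L.index ∣ 136 := h1.trans (hX.norm _ hxo)
    have hiX : ¬ 17 ∣ L.index := by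
      intro h3
      apply hv2
      rw [← hci, pow_two]
      exact mul_dvd_mul hvL h3
    have hi1 : L.index ≠ 1 := fun h3 => hLt (Subgroup.index_eq_one.1 h3)
    obtain ⟨r, hr8, hr⟩ := hX.mod h17
    rw [← hci, hcL] at hr
    have h3 : L.index ∣ 8 := by
      have h4 : L.index ∣ 17 * 8 := by simpa using h2
      exact (Nat.Coprime.dvd_of_dvd_mul_left (((Nat.Prime.coprime_iff_not_dvd hp'.out).2 hiX).symm) h4)
    obtain ⟨i, hi⟩ : ∃ i, i = L.index := ⟨_, rfl⟩
    rw [← hi] at h3 hi1 hr
    have h4 : i ≤ 8 := Nat.le_of_dvd (by norm_num) h3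
    have h6 : r ≤ 8 := Nat.le_of_dvd (by norm_num) hr8
    unfold NS at hr
    rcases hKc with h | h <;> rw [h] at hr <;> clear hi <;> interval_cases i <;> omega
  · have hq : Nontrivial (X ⧸ L) := by
      rw [QuotientGroup.nontrivial_iff]
      exact hLt
    have hSs : IsSimpleGroup (X ⧸ L) := by
      refine ⟨fun H hH => ?_⟩
      have h1 : (H.comap (QuotientGroup.mk' L)).Normal := inferInstance
      by_cases h2 : H.comap (QuotientGroup.mk' L) = ⊤
      · right
        rw [← Subgroup.map_comap_eq_self_of_surjective (QuotientGroup.mk'_surjective L) H, h2,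
          Subgroup.map_top_of_surjective _ (QuotientGroup.mk'_surjective L)]
      · left
        have h3 := hmax _ h1 (by
          intro z hz
          rw [Subgroup.mem_comap, show QuotientGroup.mk' L z = 1 from (QuotientGroup.eq_one_iff (N := L) z).2 hz]
          exact one_mem H) h2
        rw [← Subgroup.map_comap_eq_self_of_surjective (QuotientGroup.mk'_surjective L) H, h3]
        rw [Subgroup.map_eq_bot_iff, QuotientGroup.ker_mk']
    have hi : Nat.card (X ⧸ L) = L.index := (Subgroup.index_eq_card L).symm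
    -- the order of `L` is a power of `2`
    have hL2 : ∀ p : ℕ, p.Prime → p ∣ Nat.card L → p = 2 := by
      intro p hp hpL
      refine fpf_two (v := 17) (by simp) hp hX.dvd ?_
      exact fpf_of_dvd hp'.out hp h17 hcX hvL hpL fun h1 => hp.one_lt.ne' (Nat.dvd_one.1 h1)
    have key : ∀ p : ℕ, p.Prime → p ∣ Nat.card X → p ≠ 2 → p ∣ Nat.card (X ⧸ L) := by
      intro p hp hpX h2
      rw [← hci] at hpX
      rw [hi]
      exact (hp.dvd_mul.1 hpX).resolve_left fun h4 => h2 (hL2 p hp h4)
    have hqd : Nat.card (X ⧸ L) ∣ Nat.card X := by rw [hi]; exact Subgroup.index_dvd_card L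
    have hO := isO10_of tab hS (S := X ⧸ L) (hqd.trans hX.dvd) (key 5 (by norm_num) h5 (by norm_num))
      (key 7 (by norm_num) h7 (by norm_num)) (key 11 (by norm_num) h11 (by norm_num))
      (key 17 (by norm_num) h17 (by norm_num)) (fun h => h13 (h.trans hqd))
    refine ⟨L, hLn, hO, ?_⟩
    obtain ⟨j, hj⟩ : ∃ j, Nat.card L = 2 ^ j := ⟨_, Nat.eq_prime_pow_of_unique_prime_dvd Nat.card_pos.ne' (fun {p} hp hd => hL2 p hp hd)⟩
    have hj16 : j ≤ 16 := by
      by_contra hlt
      have h1 : 2 ^ 17 * NS ∣ NT := by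
        refine dvd_trans (mul_dvd_mul (pow_dvd_pow 2 (not_le.1 hlt)) dvd_rfl) ?_
        rw [← hj, ← hO.1, hi, hci]
        exact hX.dvd
      exact absurd h1 (by decide +kernel)
    obtain ⟨y, hy⟩ := exists_prime_orderOf_dvd_card' 17 h17
    have h1 : Nat.card L ≡ Nat.card ↥(centralizer ({y} : Set X) ⊓ L) [MOD 17] :=
      card_mod (by rw [← hy, pow_orderOf_eq_one])
    have h2 : Nat.card ↥(centralizer ({y} : Set X) ⊓ L) = 1 := by
      have h3 : Nat.card ↥(centralizer ({y} : Set X) ⊓ L) ∣ 17 := by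
        rw [← hX.cent y hy]
        exact card_dvd_of_le inf_le_left
      have h4 : Nat.card ↥(centralizer ({y} : Set X) ⊓ L) ∣ Nat.card L := card_dvd_of_le inf_le_right
      rcases (Nat.dvd_prime hp'.out).1 h3 with h6 | h6
      · exact h6
      · exact absurd (h6 ▸ h4) hvL
    rw [h2, hj] at h1
    have h3 : (2 ^ j : ℕ) % 17 = 1 % 17 := h1
    have h4 : j = 0 ∨ j = 8 ∨ j = 16 := by
      interval_cases j <;> revert h3 <;> decide
    rcases h4 with rfl | rfl | rfl
    · left; rw [hj, pow_zero]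
    · exact (no_eight hX hj h11 h17).elim
    · exact Or.inr hj

end Cfsg.Agent.H126.Der
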