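import Cfsg.Agent.H439.Der.Defs
import Cfsg.Agent.H81.DerSec
import Cfsg.Agent.BpSpor.SylowData
import Cfsg.Agent.H180.MElNum

/-!
# Sylow subgroups of prime order (S3502, `²E₆(2)`)

* `syl` : the numbers `|C(y)| = q c`, `|N(⟨y⟩)| = q c r`, `|Y| = q c r s`;
* `not_SC_of_fixed` : an involutory automorphism fixing an element of order `17`;
* `card_mod` : coprime action by conjugation.
-/

set_option autoImplicit false

namespace Cfsg.Agent.H126.Der

open Subgroup Cfsg.Agent.H439.Der

section syl

variable {Y : Type*} [Group Y] [Finite Y] {q : ℕ} [hq : Fact q.Prime]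

/-- the numbers of a Sylow subgroup of prime order -/
theorem syl (h2 : ¬ q ^ 2 ∣ Nat.card Y) {y : Y} (hy : orderOf y = q) :
    ∃ c r s : ℕ, Nat.card ↥(centralizer ({y} : Set Y)) = q * c ∧ Nat.card ↥(normalizer (zpowers y : Set Y)) = q * c * r ∧
      Nat.card (Sylow q Y) = s ∧ q * c * r * s = Nat.card Y ∧ r ∣ q - 1 ∧ s % q = 1 := by
  obtain ⟨P, hP⟩ := BpSpor.SylowData.exists_sylow h2 hy
  set N := normalizer (zpowers y : Set Y) with hN
  set C := centralizer ({y} : Set Y) with hC
  have hCN : C ≤ N := by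
    rw [hC, ← BpSpor.SylowData.centralizer_zpowers]
    exact centralizer_le_normalizer _
  have hyC : zpowers y ≤ C := by
    rw [zpowers_le, hC, mem_centralizer_singleton_iff]
  obtain ⟨c, hc⟩ : q ∣ Nat.card C := by
    have := card_dvd_of_le hyC
    rwa [Nat.card_zpowers, hy] at this
  have h3 : Nat.card C * C.relIndex N = Nat.card N := by
    have h1 := (C.subgroupOf N).card_mul_index
    rwa [Nat.card_congr (subgroupOfEquivOfLe hCN).toEquiv] at h1
  have h4 : Nat.card N * N.index = Nat.card Y := N.card_mul_index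
  -- `N / C`
  have hrd : C.relIndex N ∣ q - 1 := by
    have hker : (normalizerMonoidHom (zpowers y)).ker = C.subgroupOf N := by
      rw [normalizerMonoidHom_ker, BpSpor.SylowData.centralizer_zpowers]
    have h5 : C.relIndex N = Nat.card (normalizerMonoidHom (zpowers y)).range := by
      rw [← index_ker, hker]
      rfl
    rw [h5]
    have h6 : Nat.card (MulAut ↥(zpowers y)) = q - 1 := by
      rw [IsCyclic.card_mulAut, Nat.card_zpowers, hy, Nat.totient_prime hq.out]
    rw [← h6]
    exact card_subgroup_dvd_card _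
  have hs0 : Nat.card (Sylow q Y) = N.index := by
    rw [P.card_eq_index_normalizer]
    have h6 : (P : Set Y) = ((P : Subgroup Y) : Set Y) := rfl
    rw [h6, hP]
  have hs : N.index % q = 1 := by
    have h5 := card_sylow_modEq_one q Y
    rw [hs0] at h5
    have h7 : N.index % q = 1 % q := h5
    rwa [Nat.mod_eq_of_lt hq.out.one_lt] at h7
  refine ⟨c, C.relIndex N, N.index, hc, ?_, hs0, ?_, hrd, hs⟩
  · rw [← hc, h3]
  · rw [← hc, h3, h4]

end syl

/-- an involutory automorphism fixing an element of order `17` -/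
theorem not_SC_of_fixed {T : Type*} [Group T] [Finite T] {s : ℕ} (hN : Nat.card T = 136 * s)
    (hs : Nat.card (Sylow 17 T) = s) (h2 : ¬ 17 ^ 2 ∣ Nat.card T) (hO : Nat.card (Cfsg.Out T) ∣ 6) (φ : T ≃* T)
    (hφ : φ * φ = 1) (hφ1 : φ ≠ 1) {y : T} (hy : orderOf y = 17) (hφy : φ y = y) : ¬ SC T 17 := by
  intro hsc
  have hp : Fact (Nat.Prime 17) := ⟨by norm_num⟩
  have : Finite (MulAut T) := Finite.of_injective (fun f : MulAut T => (f : T → T)) DFunLike.coe_injective
  have hs0 : s ≠ 0 := by
    rintro rfl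
    rw [mul_zero] at hN
    exact Nat.card_pos.ne' hN
  have hfac : (Nat.card T).factorization 17 = 1 := by
    have h1 : 17 ∣ Nat.card T := hy ▸ orderOf_dvd_natCard y
    have h3 := (hp.out.dvd_iff_one_le_factorization Nat.card_pos.ne').1 h1
    have h4 : (Nat.card T).factorization 17 < 2 := by
      by_contra h5
      exact h2 ((hp.out.pow_dvd_iff_le_factorization Nat.card_pos.ne').2 (not_lt.1 h5))
    omega
  have horb : Nat.card (MulAction.orbit (MulAut T) y) = 16 * s := by
    have h1 : MulAction.orbit (MulAut T) y = {x : T | orderOf x = 17} := by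
      ext z
      rw [MulAction.mem_orbit_iff, Set.mem_ofPred_eq]
      constructor
      · rintro ⟨ψ, rfl⟩
        rw [MulAut.smul_def, Cfsg.Agent.H938.Sax.orderOf_mulEquiv, hy]
      · intro hz
        obtain ⟨ψ, hψ⟩ := hsc y z (by rw [hy]) (by rw [hz])
        exact ⟨ψ, hψ⟩
    rw [h1]
    have h3 := H180.MEl.card_order_prime (X := T) hfac
    rw [hs] at h3
    rw [mul_comm, ← h3]
    rfl
  have h3 : Nat.card (MulAction.orbit (MulAut T) y) * Nat.card (MulAction.stabilizer (MulAut T) y) = Nat.card (MulAut T) := by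
    rw [Nat.card_congr (MulAction.orbitEquivQuotientStabilizer (MulAut T) y)]
    exact (Subgroup.card_eq_card_quotient_mul_card_subgroup _).symm
  have h4 : Nat.card (MulAut T) ∣ 6 * Nat.card T := by
    rw [Subgroup.card_eq_card_quotient_mul_card_subgroup (MulAut.conj : T →* MulAut T).range]
    exact mul_dvd_mul hO (Subgroup.card_range_dvd _)
  have h5 : 2 ∣ Nat.card (MulAction.stabilizer (MulAut T) y) := by
    have h6 : orderOf φ = 2 := by
      have : Fact (Nat.Prime 2) := ⟨Nat.prime_two⟩
      exact orderOf_eq_prime (by rw [pow_two]; exact hφ) hφ1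
    have h7 : (φ : MulAut T) ∈ MulAction.stabilizer (MulAut T) y := hφy
    have h8 := orderOf_dvd_natCard (⟨φ, h7⟩ : MulAction.stabilizer (MulAut T) y)
    rwa [Subgroup.orderOf_mk, h6] at h8
  obtain ⟨a, ha⟩ := h5
  rw [← h3, horb, ha, hN] at h4
  obtain ⟨b, hb⟩ := h4
  have h6 : s * 816 = s * (32 * (a * b)) := by
    calc s * 816 = 6 * (136 * s) := by ring
      _ = 16 * s * (2 * a) * b := hb
      _ = s * (32 * (a * b)) := by ring
  have h7 := Nat.eq_of_mul_eq_mul_left (Nat.pos_of_ne_zero hs0) h6
  omega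

/-! ### coprime action -/

/-- fixed points of an element of prime order acting on a normal subgroup -/
theorem card_mod {X : Type*} [Group X] [Finite X] {p : ℕ} [hp : Fact p.Prime] {L : Subgroup X} [hL : L.Normal] {y : X}
    (hy : y ^ p = 1) : Nat.card L ≡ Nat.card ↥(centralizer ({y} : Set X) ⊓ L) [MOD p] := by
  classical
  have := Fintype.ofFinite L
  let f : Function.End L := fun z => ⟨y * z * y⁻¹, hL.conj_mem _ z.2 y⟩
  have key : ∀ (n : ℕ) (z : L), ((f ^ n) z : X) = y ^ n * z * (y ^ n)⁻¹ := by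
    intro n
    induction n with
    | zero =>
      intro z
      rw [pow_zero, pow_zero]
      show (z : X) = 1 * z * 1⁻¹
      simp
    | succ n ih =>
      intro z
      rw [pow_succ']
      show y * ((f ^ n) z : X) * y⁻¹ = _
      rw [ih, pow_succ']
      group
  have hf : f ^ p ^ 1 = 1 := by
    rw [pow_one]
    funext z
    apply Subtype.ext
    rw [key, hy]
    show 1 * (z : X) * 1⁻¹ = z
    simp
  have h1 := Equiv.Perm.card_fixedPoints_modEq hf
  rw [← Nat.card_eq_fintype_card] at h1
  have h2 : Nat.card ↥(centralizer ({y} : Set X) ⊓ L) = Fintype.card (Function.fixedPoints f) := by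
    rw [← Nat.card_eq_fintype_card]
    have key2 : ∀ z : (Function.fixedPoints f : Set L), ((z : L) : X) ∈ centralizer ({y} : Set X) := by
      intro z
      rw [mem_centralizer_singleton_iff]
      have h3 : y * (z.1.1 : X) * y⁻¹ = z.1.1 := congrArg Subtype.val z.2
      calc z.1.1 * y = y * (z.1.1 : X) * y⁻¹ * y := by rw [h3]
        _ = y * z.1.1 := by group
    refine Nat.card_congr ⟨fun z => ⟨⟨z, z.2.2⟩, Subtype.ext ?_⟩, fun z => ⟨z.1.1, key2 z, z.1.2⟩, fun z => rfl, fun z => rfl⟩
    show y * (z : X) * y⁻¹ = z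
    have h3 := mem_centralizer_singleton_iff.1 z.2.1
    rw [← h3, mul_inv_cancel_right]
  rw [h2]
  exact h1

end Cfsg.Agent.H126.Der
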