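import Cfsg.Agent.H126.Der.Str
import Cfsg.Agent.H126.Der.NoTwentyTwo
import Cfsg.Agent.H126.Der.FixPhi
import Cfsg.Agent.H81.DerE6
import Cfsg.Agent.H439.Der.Three

/-!
# `²E₆(2)`: the row of S3502

`rowS_2e6_two` : `RowS T` for `T ≅ ²E₆(2)`.
-/

set_option autoImplicit false
set_option linter.unusedSectionVars false

namespace Cfsg.Agent.H126.Der

open Subgroup Cfsg Cfsg.Lie Cfsg.Agent.OrdDiv Cfsg.Agent.H439.Der Cfsg.Agent.H938.Sax
open Cfsg.Agent.H436 (Prim)
open Cfsg.Agent.H81.Der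
open Cfsg.Agent.H316.U6 (MData CentRoot)

universe u

theorem prim17 : Prim 2 8 17 := prim_of (by norm_num) (by norm_num) (by norm_num) (by
  have : Fact (Nat.Prime 17) := ⟨by norm_num⟩
  refine orderOf_eq_of_pow_and_pow_div_prime (by norm_num) (by decide) fun p hp hd => ?_
  have h3 : p ∣ 2 := hp.dvd_of_dvd_pow (show p ∣ 2 ^ 3 from hd)
  rw [(Nat.prime_dvd_prime_iff_eq hp Nat.prime_two).1 h3]
  decide)

theorem num17 {c r s : ℕ} (hc : c ∣ 3) (hr : r ∣ 16) (hs : s % 17 = 1) (h : 17 * c * r * s = NT) : c = 1 ∧ r = 8 := by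
  have hc' : c = 1 ∨ c = 3 := (Nat.dvd_prime Nat.prime_three).1 hc
  obtain ⟨i, hi, rfl⟩ := (Nat.dvd_prime_pow Nat.prime_two).1 (show r ∣ 2 ^ 4 from hr)
  unfold NT at h
  rcases hc' with rfl | rfl <;> interval_cases i <;> first | exact ⟨rfl, rfl⟩ | (exfalso; omega)

section

variable {T : Type u} [Group T] [Finite T] {K : Type} [Field K] [Fintype K] (hK : Fintype.card K = 2 ^ 2)
  (e : T ≃* ↥(twistedE6 K 2))

include hK e

theorem card_T : Nat.card T = NT := by
  have h3 := S1066.result (K := K) Nat.prime_two.isPrimePow hK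
  rw [← Nat.card_congr e.toEquiv] at h3
  norm_num at h3
  unfold NT
  omega

theorem cent17 (x : T) (hx : orderOf x = 17) : Nat.card (Subgroup.centralizer ({x} : Set T)) ∣ 3 * 17 := by
  have h17 := (Cfsg.Agent.H190.Exc.te6_8 Nat.prime_two.isPrimePow hK prim17).2.congr e.symm
  have h3 := h17 x hx
  norm_num at h3 ⊢
  exact h3

theorem data17 {y : T} (hy : orderOf y = 17) : Nat.card (centralizer ({y} : Set T)) = 17 ∧
    Nat.card (normalizer (zpowers y : Set T)) = 136 ∧ Nat.card T = 136 * Nat.card (Sylow 17 T) := by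
  have hp : Fact (Nat.Prime 17) := ⟨by norm_num⟩
  have hT := card_T hK e
  obtain ⟨c, r, s, h1, h2, h3, h4, h5, h6⟩ := syl (not_sq (hT ▸ dvd_rfl)) hy
  rw [hT] at h4
  have hc : c ∣ 3 := by
    have h7 := cent17 hK e y hy
    rw [h1, mul_comm 3] at h7
    exact Nat.dvd_of_mul_dvd_mul_left (by norm_num) h7
  obtain ⟨rfl, rfl⟩ := num17 hc h5 h6 h4
  refine ⟨h1, h2, ?_⟩
  rw [hT, ← h4, h3]

theorem hyp : Hyp T :=
  ⟨by rw [card_T hK e], fun x hx => (data17 hK e hx).1, fun x hx => by rw [(data17 hK e hx).2.1]⟩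

theorem not_SC_17 : ¬ SC T 17 := by
  obtain ⟨φ, y, h1, h2, h3, h4⟩ := exists_fix hK e
  refine not_SC_of_fixed (data17 hK e h3).2.2 rfl (not_sq (card_T hK e ▸ dvd_rfl)) ?_ φ h1 h2 h3 h4
  have hch : CharP K 2 := by
    have := Fact.mk Nat.prime_two
    exact charP_of_card_eq_prime_pow hK
  have h5 := S2130.result (K := K) 2 1 (by rw [hK]) le_rfl
  rw [pow_one] at h5
  rw [card_out_congr e, h5]
  norm_num

/-- the elements commuting with a root element -/
theorem cent_root : ∃ u : T, orderOf u = 2 ∧ ∀ p ∈ [3, 5, 7, 11], ∃ x : T, orderOf x = p ∧ Commute x u := by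
  have hr : Fact (Nat.Prime 2) := ⟨Nat.prime_two⟩
  have hch : CharP K 2 := charP_of_card_eq_prime_pow hK
  obtain ⟨m, hdd, hg⟩ := H316.U6.mdata_twE6' (r := 2) Nat.prime_two.isPrimePow hK
  have hdd3 : m.dd ∣ 3 := by rw [hdd]; exact Nat.gcd_dvd_left _ _
  have hmq : 2 ^ m.e = 2 := m.hq
  obtain ⟨u, hu, hu'⟩ := exists_root_elt m
  have key : ∀ p : ℕ, p.Prime → p ≠ 2 → (orderOf ((2 : ℕ) : ZMod p) = 1 ∨ orderOf ((2 : ℕ) : ZMod p) = 2 ∨
      orderOf ((2 : ℕ) : ZMod p) = 3 ∨ orderOf ((2 : ℕ) : ZMod p) = 4 ∨ orderOf ((2 : ℕ) : ZMod p) = 6 ∨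
      orderOf ((2 : ℕ) : ZMod p) = 10) → ∃ x : ↥(twistedE6 K 2), orderOf x = p ∧ Commute x u := by
    intro p hp hp2 ho
    have hpf : Fact p.Prime := ⟨hp⟩
    obtain ⟨x, hx, hc⟩ := centRoot_TE6 m hg hdd3 hp2 hp2 (by rw [hmq]; exact ho)
    refine ⟨x, hx, m.inj ?_⟩
    rw [map_mul, map_mul]
    exact (hc (m.ι u) (m.fix u) (Or.inl hu')).symm
  have hmap : ∀ z : ↥(twistedE6 K 2), orderOf (e.symm z) = orderOf z := fun z =>
    orderOf_injective e.symm.toMonoidHom e.symm.injective z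
  refine ⟨e.symm u, by rw [hmap, hu], fun p hp => ?_⟩
  have hq : p.Prime ∧ p ≠ 2 ∧ (orderOf ((2 : ℕ) : ZMod p) = 1 ∨ orderOf ((2 : ℕ) : ZMod p) = 2 ∨
      orderOf ((2 : ℕ) : ZMod p) = 3 ∨ orderOf ((2 : ℕ) : ZMod p) = 4 ∨ orderOf ((2 : ℕ) : ZMod p) = 6 ∨
      orderOf ((2 : ℕ) : ZMod p) = 10) := by
    simp only [List.mem_cons, List.not_mem_nil, or_false] at hp
    rcases hp with rfl | rfl | rfl | rfl
    · refine ⟨by norm_num, by norm_num, Or.inr (Or.inl ?_)⟩
      rw [orderOf_eq_iff (by norm_num)]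
      decide
    · refine ⟨by norm_num, by norm_num, Or.inr (Or.inr (Or.inr (Or.inl ?_)))⟩
      rw [orderOf_eq_iff (by norm_num)]
      decide
    · refine ⟨by norm_num, by norm_num, Or.inr (Or.inr (Or.inl ?_))⟩
      rw [orderOf_eq_iff (by norm_num)]
      decide
    · refine ⟨by norm_num, by norm_num, Or.inr (Or.inr (Or.inr (Or.inr (Or.inr ?_))))⟩
      rw [orderOf_eq_iff (by norm_num)]
      decide
  obtain ⟨x, hx, hc⟩ := key p hq.1 hq.2.1 hq.2.2
  refine ⟨e.symm x, by rw [hmap, hx], ?_⟩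
  exact hc.map e.symm

theorem not_SC_small {p : ℕ} (hp : p ∈ [2, 3, 5, 7, 11]) : ¬ SC T p := by
  obtain ⟨u, hu, h⟩ := cent_root hK e
  have key : ∀ p ∈ [3, 5, 7, 11], p.Prime ∧ 2 ≠ p := by decide
  rcases List.mem_cons.1 hp with rfl | hp'
  · obtain ⟨x, hx, hc⟩ := h 3 (by simp)
    exact not_SC_of_commute Nat.prime_two Nat.prime_three (by norm_num) hu hx hc.symm
  · obtain ⟨x, hx, hc⟩ := h p hp'
    exact not_SC_of_commute (key p hp').1 Nat.prime_two (key p hp').2.symm hx hu hc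

theorem exists_22 : ∃ z : T, orderOf z = 22 := by
  obtain ⟨u, hu, h⟩ := cent_root hK e
  obtain ⟨x, hx, hc⟩ := h 11 (by simp)
  refine ⟨x * u, ?_⟩
  rw [hc.orderOf_mul_eq_mul_orderOf_of_coprime (by rw [hx, hu]; norm_num), hx, hu]

theorem not_SC_all {p : ℕ} (hp : p ∈ [2, 3, 5, 7, 11, 17]) : ¬ SC T p := by
  have h : ∀ p ∈ [2, 3, 5, 7, 11, 17], p = 17 ∨ p ∈ [2, 3, 5, 7, 11] := by decide
  rcases h p hp with rfl | h1
  · exact not_SC_17 hK e
  · exact not_SC_small hK e h1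

/-- **`²E₆(2)`: the row of S3502.** -/
theorem rowS_two (tab : OrderTable.{u}) (hS : ∀ (X : Type u) [Group X] [Finite X] [IsSimpleGroup X], IsKnownSimple' X) :
    RowS T := by
  have hT := card_T hK e
  have hprimes : ∀ p : ℕ, p.Prime → p ∣ NT → p ∈ [2, 3, 5, 7, 11, 13, 17, 19] := by
    intro p hp hd
    obtain ⟨k, hmem, -⟩ := exists_pair vT hp (j := 1) le_rfl (by rwa [pow_one])
    have h1 : ∀ x ∈ lT, x.1 ∈ [2, 3, 5, 7, 11, 13, 17, 19] := by decide
    exact h1 _ hmem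
  have hbig : ∀ R : Subgroup T, R ≠ ⊤ → (∀ p ∈ [2, 3, 5, 7, 11, 17], p ∣ Nat.card R) → ¬ 13 ∣ Nat.card R ∧ ¬ 19 ∣ Nat.card R := by
    intro R hR h
    obtain ⟨a, b, ha, hb, hab, h1, h2, h3, h4⟩ := missTwo_2e6 tab hS hK e hR
    have key : ∀ p : ℕ, p.Prime → p ∣ Nat.card T → ¬ p ∣ Nat.card R → p = 13 ∨ p = 19 := by
      intro p hp h5 h6
      have h7 := hprimes p hp (hT ▸ h5)
      by_contra h8
      push Not at h8
      have h9 : ∀ p ∈ [2, 3, 5, 7, 11, 13, 17, 19], p = 13 ∨ p = 19 ∨ p ∈ [2, 3, 5, 7, 11, 17] := by decide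
      rcases h9 p h7 with h10 | h10 | h10
      · exact h8.1 h10
      · exact h8.2 h10
      · exact h6 (h p h10)
    rcases key a ha h1 h3 with rfl | rfl <;> rcases key b hb h2 h4 with rfl | rfl
    · exact absurd rfl hab
    · exact ⟨h3, h4⟩
    · exact ⟨h4, h3⟩
    · exact absurd rfl hab
  refine ⟨fun M hM => (missTwo_2e6 tab hS hK e hM.1).two, fun R hR hRc => ?_⟩
  by_cases hall : ∀ p ∈ [2, 3, 5, 7, 11, 17], p ∣ Nat.card R
  · -- `R` is contained in a maximal subgroup, of the same type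
    obtain ⟨h13, h19⟩ := hbig R hR hall
    rcases eq_top_or_exists_le_coatom R with h1 | ⟨M, hM, hRM⟩
    · exact absurd h1 hR
    have hMd : Nat.card R ∣ Nat.card M := card_dvd_of_le hRM
    have hallM : ∀ p ∈ [2, 3, 5, 7, 11, 17], p ∣ Nat.card M := fun p hp => (hall p hp).trans hMd
    obtain ⟨h13M, -⟩ := hbig M hM.1 hallM
    have hy := hyp hK e
    obtain ⟨KR, hKR, hOR, hcR⟩ := str tab hS _ R rfl (hy.sub R) (hall 5 (by simp)) (hall 7 (by simp))
      (hall 11 (by simp)) (hall 17 (by simp)) h13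
    obtain ⟨KM, hKM, hOM, hcM⟩ := str tab hS _ M rfl (hy.sub M) (hallM 5 (by simp)) (hallM 7 (by simp))
      (hallM 11 (by simp)) (hallM 17 (by simp)) h13M
    have hR' : Nat.card R = NS * Nat.card KR := by
      rw [Subgroup.card_eq_card_quotient_mul_card_subgroup KR, hOR.1]
    have hM' : Nat.card M = NS * Nat.card KM := by
      rw [Subgroup.card_eq_card_quotient_mul_card_subgroup KM, hOM.1]
    have hlt : Nat.card R < Nat.card M := by
      refine lt_of_le_of_ne (Nat.le_of_dvd Nat.card_pos hMd) fun h => hRc ?_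
      have h2 : R = M := Subgroup.eq_of_le_of_card_ge hRM h.ge
      rw [h2]
      exact hM
    have hK1 : Nat.card KR = 1 := by
      rcases hcR with h | h
      · exact h
      · exfalso
        rw [hR', hM', h] at hlt
        have h3 : Nat.card KM ≤ 2 ^ 16 := by
          rcases hcM with h4 | h4 <;> rw [h4]
          norm_num
        exact absurd (Nat.mul_le_mul_left NS h3) (not_le.2 hlt)
    -- `R ≅ O₁₀⁻(2)`
    have hbot : KR = ⊥ := Subgroup.card_eq_one.1 hK1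
    have h22 : ∀ z ∈ R, orderOf z ≠ 22 := by
      intro z hz hzo
      have h3 : orderOf (QuotientGroup.mk' KR (⟨z, hz⟩ : R)) = 22 := by
        rw [← hzo, ← Subgroup.orderOf_mk z hz]
        refine orderOf_injective (QuotientGroup.mk' KR) ?_ _
        rw [← MonoidHom.ker_eq_bot_iff, QuotientGroup.ker_mk', hbot]
      exact no22_real hOR.2.2 _ h3
    have hf13 : Fact (Nat.Prime 13) := ⟨by norm_num⟩
    have hf19 : Fact (Nat.Prime 19) := ⟨by norm_num⟩
    obtain ⟨x, hx⟩ := exists_prime_orderOf_dvd_card' (G := T) 13 (hT ▸ dvd_tab 13 (by simp))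
    obtain ⟨y, hy'⟩ := exists_prime_orderOf_dvd_card' (G := T) 19 (hT ▸ dvd_tab 19 (by simp))
    obtain ⟨z, hz⟩ := exists_22 hK e
    have hord : ∀ w ∈ R, orderOf w ∣ Nat.card R := fun w hw => by
      have := orderOf_dvd_natCard (⟨w, hw⟩ : R)
      rwa [Subgroup.orderOf_mk] at this
    exact Three.of_orders (by norm_num) (by norm_num) (by norm_num) hx hy' hz (fun w hw h => h13 (h ▸ hord w hw))
      (fun w hw h => h19 (h ▸ hord w hw)) h22
  · -- a missing prime with two classes, and another one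
    push Not at hall
    obtain ⟨p, hp, hpR⟩ := hall
    have hpp : ∀ p ∈ [2, 3, 5, 7, 11, 17], p.Prime := by decide
    obtain ⟨a, b, ha, hb, hab, h1, h2, h3, h4⟩ := missTwo_2e6 tab hS hK e hR
    by_cases hpa : p = a
    · subst hpa
      exact Three.of_two_primes (hpp p hp) hb hab h2 hpR h4 (not_SC_all hK e hp)
    · exact Three.of_two_primes (hpp p hp) ha hpa h1 hpR h3 (not_SC_all hK e hp)

end

/-- **`²E₆(2)`: the row of S3502, by the order.** -/
theorem rowS_2e6_two (tab : OrderTable.{u}) (hS : ∀ (X : Type u) [Group X] [Finite X] [IsSimpleGroup X], IsKnownSimple' X)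
    {T : Type u} [Group T] [Finite T] {K : Type} [Field K] [Fintype K] {q : ℕ} (hq : q < 3) (hqp : IsPrimePow q)
    (hK : Fintype.card K = q ^ 2) (e : T ≃* ↥(twistedE6 K q)) : RowS T := by
  have hq2 : q = 2 := by have := hqp.two_le; omega
  subst hq2
  exact rowS_two hK e tab hS

end Cfsg.Agent.H126.Der
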